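import Cfsg.Agent.Lib.LP2.Count

/-!
Package BU (counting Sylow subgroups).

* `ineq`: for each Sylow `Q ∋ x` choose `g_Q ∈ C(x)` with `g_Q • P = Q`.  The map
  `(Q, a) ↦ g_Q a.out N⟨x⟩ ∈ H ⧸ N⟨x⟩`, `a ≠ 1` in `N(P) ⧸ (N⟨x⟩).subgroupOf N(P)`, is injective: if
  `g_R k' = g_Q k ν`, `ν ∈ N⟨x⟩`, then `w = g_R k' x k'⁻¹ g_R⁻¹` lies in `R` and in `Q` (a power of
  `g_Q k x k⁻¹ g_Q⁻¹`); if `Q ≠ R` then `w ∈ Q ⊓ R = ⟨x⟩` (`inf_eq`), so `k' x k'⁻¹ ∈ ⟨x⟩` and
  `k' ∈ N⟨x⟩`, false.  So `m (s - 1) ≤ t`.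
* `low`: take `Q₀` with `P ⊓ Q₀ = ⊥`; its orbit under `P` has `p²` elements
  (`SylNum.card_orbit_sylow_of_isPGroup`), none contains `x`.
* `burn`: Burnside's lemma `MulAction.sum_card_fixedBy_eq_card_orbits_mul_card_group` for `P` on
  `Sylow p H`; a `p`-element fixes `Q` iff it lies in `Q` (`Sylow.smul_eq_iff_mem_normalizer`,
  `IsPGroup.inf_normalizer_sylow`).
* `burn1`: `n + (p² - 1) ≡ 0`.
* `burn2`: the set `B` of `y ∈ P`, `y ≠ 1` with `fx y ≠ 1` is the disjoint union of the sets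
  `k ⟨x⟩ k⁻¹ ∖ 1`, `k ∈ N(P) ⧸ N⟨x⟩` (`fx_conj`, `fx_congr`), so `|B| = s (p - 1) ≤ p² - 1` and
  `n + (p² - 1) + p s (p - 1) ≡ 0 mod p²`.
-/

set_option autoImplicit false
set_option linter.unusedSectionVars false

namespace CfsgLib.LP2

open Subgroup CfsgLib.LAE

universe u

variable {H : Type u} [Group H] [Finite H] {p : ℕ} [hp : Fact p.Prime] {P Q : Sylow p H} {x x' : H}

theorem bu_nx {k : H} (hk : k * x * k⁻¹ ∈ zpowers x) : k ∈ NX x := by
  refine mem_normalizer_fintype fun n hn => ?_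
  obtain ⟨m, rfl⟩ := mem_zpowers_iff.1 hn
  rw [← conj_zpow]
  exact zpow_mem hk m

theorem bu_one : fx p (1 : H) = nn p H :=
  Nat.card_congr (Equiv.subtypeUnivEquiv fun Q => (Q : Subgroup H).one_mem)

/-- the nontrivial elements of `P` conjugate into `⟨x⟩` under `N(P)` -/
theorem bu_card (hx : Ln P x) : Nat.card {y : (P : Subgroup H) // y ≠ 1 ∧ ∃ g ∈ NS P,
    g * y * g⁻¹ ∈ zpowers x} = ss P x * (p - 1) := by
  have hz : Nat.card {z : zpowers x // z ≠ 1} = p - 1 := by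
    classical
    have := Fintype.ofFinite (zpowers x)
    rw [Nat.card_eq_fintype_card, Fintype.card_subtype_compl, Fintype.card_subtype_eq,
      ← Nat.card_eq_fintype_card, Nat.card_zpowers, hx.ord]
  rw [← hz, ss, relIndex, index, ← Nat.card_prod]
  symm
  refine Nat.card_eq_of_bijective (fun a => ⟨⟨a.1.out * a.2.1 * (a.1.out : H)⁻¹,
    (mem_normalizer_iff.1 a.1.out.2 _).1 (zpowers_le.2 hx.mem a.2.1.2)⟩, fun e => a.2.2 ?_,
    (a.1.out : H)⁻¹, inv_mem a.1.out.2, ?_⟩) ⟨?_, ?_⟩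
  · exact Subtype.ext (conj_eq_one_iff.1 (congrArg Subtype.val e))
  · simpa [mul_assoc] using a.2.1.2
  · rintro ⟨a, z, hz⟩ ⟨b, w, hw⟩ e
    have e' : (a.out : H) * z * (a.out : H)⁻¹ = b.out * w * (b.out : H)⁻¹ :=
      congrArg (fun t => (t.1 : H)) e
    have h1 : zpowers (w : H) = zpowers x := hx.zpowers_eq w.2 fun e => hw (Subtype.ext e)
    have h2 : (a.out : H)⁻¹ * b.out ∈ NX (w : H) := bu_nx (by
      rw [h1]
      convert z.2 using 1
      calc _ = (a.out : H)⁻¹ * (b.out * w * (b.out : H)⁻¹) * a.out := by group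
        _ = z := by rw [← e']; group)
    rw [NX, h1] at h2
    obtain rfl : a = b := by
      rw [← a.out_eq', ← b.out_eq']
      exact QuotientGroup.eq.2 h2
    obtain rfl : z = w := Subtype.ext (mul_left_cancel (mul_right_cancel e'))
    rfl
  · rintro ⟨y, hy, g, hg, hm⟩
    obtain ⟨v, hv⟩ := QuotientGroup.mk_out_eq_mul ((NX x).subgroupOf (NS P)) (⟨g, hg⟩ : NS P)⁻¹
    have hv' : (v.1 : H)⁻¹ ∈ NX x := inv_mem v.2
    refine ⟨⟨((⟨g, hg⟩ : NS P)⁻¹ : NS P), ⟨_, (mem_normalizer_iff.1 hv' _).1 hm⟩, fun e => hy ?_⟩, ?_⟩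
    · exact Subtype.ext (conj_eq_one_iff.1 (conj_eq_one_iff.1 (congrArg Subtype.val e)))
    · refine Subtype.ext (Subtype.ext ?_)
      simp only [hv, coe_mul, coe_inv]
      group

namespace Hy

variable (h : Hy p H)
include h

theorem ineq (hx : Ln P x) : fx p x * ss P x ≤ tt x + fx p x := by
  classical
  have := Fintype.ofFinite {Q : Sylow p H // x ∈ (Q : Subgroup H)}
  have hs : ∀ Q : {Q : Sylow p H // x ∈ (Q : Subgroup H)},
      Nat.card (NS Q.1 ⧸ (NX x).subgroupOf (NS Q.1)) = ss P x := fun Q =>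
    Nat.eq_of_mul_eq_mul_left (Nat.card_pos : 0 < nn p H)
      ((h.tm (P := Q.1) ⟨Q.2, hx.ord⟩).symm.trans (h.tm hx))
  have h1 := Nat.card_le_card_of_injective
    (fun a : Σ Q : {Q : Sylow p H // x ∈ (Q : Subgroup H)}, NS Q.1 ⧸ (NX x).subgroupOf (NS Q.1) =>
      if (a.2.out : H) ∈ NX x then Sum.inr a.1 else Sum.inl ((a.2.out : H) : H ⧸ NX x)) (by
    rintro ⟨Q, a⟩ ⟨R, b⟩ e
    have key : (a.out : H)⁻¹ * b.out ∈ NX x ∧ Q = R := by
      dsimp only at e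
      split_ifs at e with ha hb hb
      · exact ⟨mul_mem (inv_mem ha) hb, Sum.inr_injective e⟩
      · have e' := QuotientGroup.eq.1 (Sum.inl_injective e)
        refine ⟨e', by_contra fun hQR => hb (bu_nx ?_)⟩
        rw [← (h.inf_eq (fun e => hQR (Subtype.ext e)) Q.2 R.2 hx.ne1).2]
        refine mem_inf.2 ⟨?_, (mem_normalizer_iff.1 b.out.2 _).1 R.2⟩
        have := (mem_normalizer_iff.1 a.out.2 _).1
          (zpowers_le.2 Q.2 ((mem_normalizer_iff.1 e' _).1 (mem_zpowers x)))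
        convert this using 1
        group
    obtain ⟨h1, rfl⟩ := key
    obtain rfl : a = b := by
      rw [← a.out_eq', ← b.out_eq']
      exact QuotientGroup.eq.2 h1
    rfl)
  rwa [Nat.card_sigma, Nat.card_sum, Finset.sum_congr rfl fun Q _ => hs Q, Finset.sum_const,
    Finset.card_univ, ← Nat.card_eq_fintype_card, smul_eq_mul] at h1

theorem low (hx : x ∈ (P : Subgroup H)) (h1 : x ≠ 1) : fx p x + p ^ 2 ≤ nn p H := by
  obtain ⟨Q, hQ⟩ := h.core P
  have h2 : Nat.card (MulAction.orbit (P : Subgroup H) Q) = p ^ 2 := by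
    rw [SylNum.card_orbit_sylow_of_isPGroup P.isPGroup', ← inf_relIndex_left, hQ, relIndex_bot_left,
      h.syl P]
  have h3 : Disjoint {R : Sylow p H | x ∈ (R : Subgroup H)} (MulAction.orbit (P : Subgroup H) Q) := by
    rw [Set.disjoint_left]
    rintro _ hR ⟨g, rfl⟩
    have h4 : x ∈ (((g : H) • Q : Sylow p H) : Subgroup H) := hR
    rw [ct_smul, mem_conjS] at h4
    have h5 : (g : H)⁻¹ * x * g ∈ (P : Subgroup H) ⊓ Q :=
      mem_inf.2 ⟨mul_mem (mul_mem (inv_mem g.2) hx) g.2, h4⟩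
    rw [hQ, mem_bot, mul_assoc, inv_mul_eq_one, right_eq_mul] at h5
    exact h1 h5
  have h6 := Set.ncard_le_card ({R : Sylow p H | x ∈ (R : Subgroup H)} ∪
    MulAction.orbit (P : Subgroup H) Q)
  rw [Set.ncard_union_eq h3, ← Nat.card_coe_set_eq, ← Nat.card_coe_set_eq, h2] at h6
  exact h6

theorem burn (P : Sylow p H) : p ^ 2 ∣ ∑ᶠ y : (P : Subgroup H), fx p (y : H) := by
  classical
  have := Fintype.ofFinite (P : Subgroup H)
  have := Fintype.ofFinite (Sylow p H)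
  have := Fintype.ofFinite (Quotient (MulAction.orbitRel (P : Subgroup H) (Sylow p H)))
  have h1 := MulAction.sum_card_fixedBy_eq_card_orbits_mul_card_group (P : Subgroup H) (Sylow p H)
  rw [← Nat.card_eq_fintype_card (α := (P : Subgroup H)), h.syl P] at h1
  rw [finsum_eq_sum_of_fintype]
  refine Dvd.intro_left _ (h1.symm.trans (Finset.sum_congr rfl fun y _ => ?_))
  rw [← Nat.card_eq_fintype_card]
  refine Nat.card_congr (Equiv.subtypeEquivRight fun Q => ?_)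
  have h2 := P.isPGroup'.inf_normalizer_sylow Q
  refine (Sylow.smul_eq_iff_mem_normalizer (g := (y : H)) (P := Q)).trans ⟨fun m => ?_, fun m => le_normalizer m⟩
  exact (h2.le ⟨y.2, m⟩).2

theorem burn0 (P : Sylow p H) {B : ↥(P : Subgroup H) → Prop} {k : ℕ}
    (hf : ∀ y : (P : Subgroup H), y ≠ 1 → (B y → fx p (y : H) ≡ k + 1 [MOD p ^ 2]) ∧
      (¬ B y → fx p (y : H) ≡ 1 [MOD p ^ 2])) :
    (nn p H : ZMod (p ^ 2)) + k * Nat.card {y // y ≠ 1 ∧ B y} = 1 := by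
  classical
  have := Fintype.ofFinite (P : Subgroup H)
  have h1 := (ZMod.natCast_eq_zero_iff _ _).2 (h.burn P)
  rw [finsum_eq_sum_of_fintype, Nat.cast_sum] at h1
  have h2 : ∀ y : (P : Subgroup H), (fx p (y : H) : ZMod (p ^ 2)) =
      1 + (if y = 1 then (nn p H : ZMod (p ^ 2)) - 1 else 0) + k * if y ≠ 1 ∧ B y then 1 else 0 := by
    intro y
    by_cases hy : y = 1
    · simp [hy, bu_one]
    · by_cases hb : B y
      · rw [(ZMod.natCast_eq_natCast_iff _ _ _).2 ((hf y hy).1 hb)]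
        simp [hy, hb, add_comm]
      · rw [(ZMod.natCast_eq_natCast_iff _ _ _).2 ((hf y hy).2 hb)]
        simp [hy, hb]
  rw [Finset.sum_congr rfl fun y _ => h2 y, Finset.sum_add_distrib, Finset.sum_add_distrib,
    ← Finset.mul_sum, Finset.sum_boole, Finset.sum_ite_eq', if_pos (Finset.mem_univ _),
    Finset.sum_const, Finset.card_univ, ← Nat.card_eq_fintype_card, h.syl P, nsmul_one,
    ZMod.natCast_self, ← Fintype.card_subtype, ← Nat.card_eq_fintype_card] at h1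
  linear_combination h1

theorem burn1 (hf : ∀ y ∈ (P : Subgroup H), y ≠ 1 → fx p y ≡ 1 [MOD p ^ 2]) :
    nn p H ≡ 1 [MOD p ^ 2] := by
  have := h.burn0 P (B := fun _ => False) (k := 0) fun y hy =>
    ⟨False.elim, fun _ => hf y y.2 fun e => hy (Subtype.ext e)⟩
  rw [← ZMod.natCast_eq_natCast_iff]
  simpa using this

theorem burn2 (hx : Ln P x) (h1 : fx p x = p + 1) (hf : ∀ y ∈ (P : Subgroup H), y ≠ 1 →
      fx p y ≠ 1 → ∃ g ∈ NS P, g * y * g⁻¹ ∈ zpowers x) :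
    nn p H ≡ 1 + p * ss P x [MOD p ^ 2] ∧ ss P x ≤ p + 1 := by
  have h2 := h.burn0 P (B := fun y => ∃ g ∈ NS P, g * y * g⁻¹ ∈ zpowers x) (k := p) fun y hy => by
    have hy' : (y : H) ≠ 1 := fun e => hy (Subtype.ext e)
    refine ⟨fun ⟨g, _, hg⟩ => ?_, fun hn => ?_⟩
    · rw [← fx_conj g, fx_congr (hx.zpowers_eq hg fun e => hy' (conj_eq_one_iff.1 e)), h1]
    · rw [not_not.1 fun e => hn (hf y y.2 hy' e)]
  have h3 := bu_card hx
  have h5 := hp.out.two_le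
  obtain ⟨q, hq⟩ : ∃ q, p = q + 1 := ⟨p - 1, by omega⟩
  refine ⟨?_, ?_⟩
  · rw [h3] at h2
    rw [← ZMod.natCast_eq_natCast_iff]
    have h4 : ((p ^ 2 : ℕ) : ZMod (p ^ 2)) = 0 := ZMod.natCast_self _
    push_cast [Nat.cast_sub hp.out.one_le] at h2 h4 ⊢
    linear_combination h2 - ss P x * h4
  · have h4 : Nat.card {y : (P : Subgroup H) // y ≠ 1 ∧ ∃ g ∈ NS P, g * y * g⁻¹ ∈ zpowers x} <
        Nat.card (P : Subgroup H) := Finite.card_subtype_lt (x := 1) fun e => e.1 rfl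
    rw [h3, h.syl P] at h4
    refine Nat.le_of_mul_le_mul_right (c := p - 1) ?_ (by omega)
    generalize ss P x * (p - 1) = m at h4 ⊢
    rw [hq] at h4 ⊢
    simp only [Nat.add_sub_cancel]
    nlinarith

end Hy

end CfsgLib.LP2
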