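import Cfsg.Agent.Lib.LP2.Defs
import Cfsg.Agent.Lib.LAE.Sylow

/-!
Package CT (index computations).

* `ns_eq`: for `P ≤ U` the Sylow subgroups inside `U` form the orbit of `P` under `U` (Sylow's
  theorem in `U`, `Sylow.subtype`), `SylNum.card_orbit_sylow`.
* `fx_C`, `fx_N`: a Sylow subgroup `Q` contains `x` iff `Q ≤ C(x)` iff `Q ≤ N(⟨x⟩)` (`Q` is abelian;
  `x` normalizes.. simply: `Q ≤ N⟨x⟩` gives the `p`-group `⟨x⟩ ⊔ Q`, so `x ∈ Q`).
* `fx_syl`: `Fgs.card_sylow_subgroup_eq_relIndex`.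
* `tm`: both sides are the index of `N⟨x⟩ ⊓ N(P)` (`relIndex_mul_index`, `inf_relIndex_right`).
* `inf_eq`: `P ⊓ Q` is a proper nontrivial subgroup of the group `P` of order `p²`.
* `fx_le`: `N⟨x⟩ ⊓ C(x') ≤ N(⟨x⟩ ⊔ ⟨x'⟩) = N(P)`, so
  `fx x' = [C(x') : N(P)] ≤ [C(x') : N⟨x⟩] ≤ t`.
-/

set_option autoImplicit false
set_option linter.unusedSectionVars false

namespace CfsgLib.LP2

open Subgroup CfsgLib.LAE

universe u

variable {H : Type u} [Group H] [Finite H] {p : ℕ} [hp : Fact p.Prime] {P Q : Sylow p H} {x x' : H}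

theorem ns_eq {U : Subgroup H} (hU : (P : Subgroup H) ≤ U) :
    Nat.card {Q : Sylow p H // (Q : Subgroup H) ≤ U} = (NS P).relIndex U := by
  rw [← SylNum.card_orbit_sylow]
  refine Nat.card_congr (Equiv.subtypeEquivRight fun Q => ⟨fun hQ => ?_, ?_⟩)
  · obtain ⟨g, hg⟩ := MulAction.exists_smul_eq U (P.subtype hU) (Q.subtype hQ)
    rw [Sylow.smul_subtype] at hg
    exact ⟨g, Sylow.subtype_injective hg⟩
  · rintro ⟨g, rfl⟩
    exact Sylow.smul_le hU g

omit [Finite H] hp in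
theorem ct_smul (g : H) (Q : Sylow p H) : ((g • Q : Sylow p H) : Subgroup H) = conjS g Q :=
  (conjS_eq_smul g _).symm

omit [Finite H] in
theorem ct_CN (x : H) : CX x ≤ NX x := by
  rw [CX, ← centralizer_closure, ← zpowers_eq_closure]; exact centralizer_le_normalizer _

omit [Finite H] in
theorem ct_mem {y : H} : y ∈ CX x ↔ x * y = y * x := mem_centralizer_singleton_iff.trans eq_comm

theorem nn_mod : nn p H ≡ 1 [MOD p] := card_sylow_modEq_one p H

theorem fx_conj (g : H) : fx p (g * x * g⁻¹) = fx p x := 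
  (Nat.card_congr ((MulAction.toPerm g).subtypeEquiv fun Q => by
    rw [MulAction.toPerm_apply, ct_smul, conj_mem_conjS])).symm

theorem fx_congr (h : zpowers x = zpowers x') : fx p x = fx p x' := 
  Nat.card_congr (Equiv.subtypeEquivRight fun Q => by rw [← zpowers_le, h, zpowers_le])

theorem fx_pos (hx : x ∈ (P : Subgroup H)) : 1 ≤ fx p x := 
  have : Nonempty {Q : Sylow p H // x ∈ (Q : Subgroup H)} := ⟨⟨P, hx⟩⟩
  Nat.card_pos

theorem exists_ln (hx : orderOf x = p) : ∃ P : Sylow p H, Ln P x := by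
  obtain ⟨P, hP⟩ := (IsPGroup.of_card (p := p) (G := zpowers x) (n := 1)
    (by rw [Nat.card_zpowers, hx, pow_one])).exists_le_sylow
  exact ⟨P, hP (mem_zpowers x), hx⟩

theorem Ln.zpowers_eq (hx : Ln P x) (h1 : x' ∈ zpowers x) (h2 : x' ≠ 1) :
    zpowers x' = zpowers x := by
  refine eq_of_le_of_card_ge (zpowers_le.2 h1) ?_
  have := orderOf_dvd_of_mem_zpowers h1
  rw [hx.ord] at this
  rw [Nat.card_zpowers, Nat.card_zpowers, hx.ord,
    (hp.out.eq_one_or_self_of_dvd _ this).resolve_left (by rwa [orderOf_eq_one_iff])]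

theorem Ln.pg (hx : Ln P x) : IsPGroup p (zpowers x) :=
  .of_card (n := 1) (by rw [Nat.card_zpowers, hx.ord, pow_one])

omit [Finite H] in
theorem Ln.ne1 (hx : Ln P x) : x ≠ 1 := fun e => hp.out.ne_one (by rw [← hx.ord, e, orderOf_one])

omit [Finite H] in
theorem ct_card {A B : Subgroup H} (h : A ≤ B) : Nat.card B = A.relIndex B * Nat.card A := by
  rw [← relIndex_bot_left, ← relIndex_bot_left, mul_comm, relIndex_mul_relIndex _ _ _ bot_le h]

theorem ee_dvd : (P : Subgroup H) ≤ CX x → ee P x ∣ cc P := fun hC =>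
  Dvd.intro _ (relIndex_mul_relIndex _ _ _ (le_inf hC le_normalizer) inf_le_right)

theorem ss_ne : ss P x ≠ 0 := index_ne_zero_of_finite

namespace Hy

variable (h : Hy p H)
include h

theorem comm (P : Sylow p H) : IsMulCommutative (P : Subgroup H) := IsPGroup.isMulCommutative_of_card_eq_prime_sq (h.syl P)

theorem le_C (hx : x ∈ (P : Subgroup H)) : (P : Subgroup H) ≤ CX x := fun y hy =>
  ct_mem.2 (congrArg Subtype.val ((h.comm P).is_comm.comm ⟨x, hx⟩ ⟨y, hy⟩))

theorem card_eq (P : Sylow p H) : Nat.card H = nn p H * (p ^ 2 * cc P) := by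
  rw [nn, P.card_eq_index_normalizer, ← h.syl P, mul_comm _ (cc P), cc, ← ct_card le_normalizer]
  exact (index_mul_card _).symm

theorem dvd (P : Sylow p H) : 2 * (nn p H * cc P) ∣ p ^ 4 - 1 := by
  have := h.card
  rw [h.card_eq P, show 2 * (nn p H * (p ^ 2 * cc P)) = p ^ 2 * (2 * (nn p H * cc P)) by ring] at this
  exact Nat.dvd_of_mul_dvd_mul_left (pow_pos hp.out.pos 2) this

theorem cc_eq (P Q : Sylow p H) : cc P = cc Q := by
  have := (h.card_eq P).symm.trans (h.card_eq Q)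
  have n0 : 0 < nn p H := Nat.card_pos
  exact Nat.eq_of_mul_eq_mul_left (pow_pos hp.out.pos 2) (Nat.eq_of_mul_eq_mul_left n0 this)

theorem mem_iff_N (hx : Ln P x) : x ∈ (Q : Subgroup H) ↔ (Q : Subgroup H) ≤ NX x :=
  ⟨fun m => (h.le_C m).trans (ct_CN x), fun m =>
    (isSylowIn_top Q).le_of_le_normalizer hx.pg le_top m (mem_zpowers x)⟩

theorem fx_C (hx : Ln P x) : fx p x = (NS P).relIndex (CX x) := by
  rw [← ns_eq (h.le_C hx.mem)]
  exact Nat.card_congr (Equiv.subtypeEquivRight fun Q =>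
    ⟨h.le_C, fun m => (h.mem_iff_N hx).2 (m.trans (ct_CN x))⟩)

theorem fx_N (hx : Ln P x) : fx p x = (NS P).relIndex (NX x) := by
  rw [← ns_eq ((h.mem_iff_N hx).1 hx.mem)]
  exact Nat.card_congr (Equiv.subtypeEquivRight fun Q => h.mem_iff_N hx)

theorem fx_syl (hx : Ln P x) : fx p x = Nat.card (Sylow p (CX x)) := by
  rw [h.fx_C hx, Fgs.card_sylow_subgroup_eq_relIndex (h.le_C hx.mem) P.isPGroup'
    (isSylowIn_of_le P (h.le_C hx.mem)).not_dvd_relIndex]

theorem fx_mod (hx : Ln P x) : fx p x ≡ 1 [MOD p] := h.fx_syl hx ▸ card_sylow_modEq_one p _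

theorem card_C (hx : Ln P x) : Nat.card (CX x) = fx p x * (p ^ 2 * ee P x) := by
  rw [h.fx_C hx, ← h.syl P, mul_comm _ (ee P x), ee, ← ct_card (le_inf (h.le_C hx.mem) le_normalizer),
    ← inf_relIndex_left, ← ct_card inf_le_left]

theorem card_N (hx : Ln P x) : Nat.card (NX x) * ss P x = fx p x * (p ^ 2 * cc P) := by
  rw [h.fx_N hx, ← h.syl P, mul_comm _ (cc P), cc, ← ct_card le_normalizer, ct_card (inf_le_left : NX x ⊓ NS P ≤ _),
    ct_card (inf_le_right : NX x ⊓ NS P ≤ _), inf_relIndex_left, inf_relIndex_right, ss]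
  ring

theorem ss_dvd (hx : Ln P x) : ss P x ∣ cc P := by
  rw [ss, ← inf_relIndex_right]
  exact Dvd.intro_left _ (relIndex_mul_relIndex _ _ _ (le_inf ((h.mem_iff_N hx).1 hx.mem) le_normalizer) inf_le_right)

theorem tm (hx : Ln P x) : tt x * fx p x = nn p H * ss P x := by
  rw [h.fx_N hx, nn, P.card_eq_index_normalizer, tt, ss, mul_comm, ← inf_relIndex_left,
    relIndex_mul_index inf_le_left, mul_comm, ← inf_relIndex_right (NX x)]
  exact (relIndex_mul_index inf_le_right).symm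

/-- subgroups of `P` -/
theorem sub_card {A : Subgroup H} (hA : A ≤ P) : A = ⊥ ∨ Nat.card A = p ∨ A = P := by
  have := card_dvd_of_le hA
  rw [h.syl P] at this
  obtain ⟨k, hk, e⟩ := (Nat.dvd_prime_pow hp.out).1 this
  interval_cases k
  · exact Or.inl (card_eq_one.1 e)
  · exact Or.inr (Or.inl (e.trans (pow_one p)))
  · exact Or.inr (Or.inr (eq_of_le_of_card_ge hA (by rw [e, h.syl P])))

theorem inf_eq (hPQ : P ≠ Q) (h1 : x ∈ (P : Subgroup H)) (h2 : x ∈ (Q : Subgroup H)) (hx : x ≠ 1) :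
    orderOf x = p ∧ (P : Subgroup H) ⊓ Q = zpowers x := by
  have c : Nat.card ((P : Subgroup H) ⊓ Q : Subgroup H) = p := by
    rcases h.sub_card (inf_le_left : (P : Subgroup H) ⊓ Q ≤ _) with e | e | e
    · exact absurd (mem_bot.1 (e ▸ mem_inf.2 ⟨h1, h2⟩)) hx
    · exact e
    · exact absurd (Sylow.ext (P.is_maximal' Q.isPGroup' (inf_eq_left.1 e)).symm) hPQ
  have l : zpowers x ≤ (P : Subgroup H) ⊓ Q := zpowers_le.2 ⟨h1, h2⟩
  have d := card_dvd_of_le l
  rw [c, Nat.card_zpowers] at d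
  have o := (hp.out.eq_one_or_self_of_dvd _ d).resolve_left (by rwa [orderOf_eq_one_iff])
  exact ⟨o, (eq_of_le_of_card_ge l (by rw [c, Nat.card_zpowers, o])).symm⟩

theorem ln_of_fx (h1 : x ∈ (P : Subgroup H)) (hx : x ≠ 1) (h2 : fx p x ≠ 1) : Ln P x := by
  by_contra hn
  refine h2 (Nat.card_eq_one_iff_exists.2 ⟨⟨P, h1⟩, fun Q => Subtype.ext ?_⟩)
  by_contra e
  exact hn ⟨h1, (h.inf_eq e Q.2 h1 hx).1⟩

theorem sup_eq (hx : Ln P x) (hx' : Ln P x') (hn : x' ∉ zpowers x) :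
    zpowers x ⊔ zpowers x' = P := by
  have l : zpowers x ⊔ zpowers x' ≤ P := sup_le (zpowers_le.2 hx.mem) (zpowers_le.2 hx'.mem)
  rcases h.sub_card l with e | e | e
  · exact absurd (mem_bot.1 (e ▸ mem_sup_left (mem_zpowers x))) hx.ne1
  · refine absurd ?_ hn
    rw [eq_of_le_of_card_ge (le_sup_left : zpowers x ≤ zpowers x ⊔ zpowers x') (by rw [e, Nat.card_zpowers, hx.ord])]
    exact mem_sup_right (mem_zpowers x')
  · exact e

theorem fx_le (hx : Ln P x) (hx' : Ln P x') (hn : x' ∉ zpowers x) : fx p x' ≤ tt x := by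
  rw [h.fx_C hx']
  have l : NX x ⊓ CX x' ≤ NS P := by
    rw [NS, ← h.sup_eq hx hx' hn]
    exact le_normalizer_sup inf_le_left (inf_le_right.trans (ct_CN x'))
  calc (NS P).relIndex (CX x') ≤ (NX x ⊓ CX x').relIndex (CX x') :=
        relIndex_le_of_le_left l index_ne_zero_of_finite
    _ = (NX x).relIndex (CX x') := inf_relIndex_right _ _
    _ ≤ (NX x).relIndex ⊤ := relIndex_le_of_le_right le_top index_ne_zero_of_finite
    _ = tt x := relIndex_top_right _

/-- a subgroup of order `p²` is a Sylow subgroup, hence self-centralizing -/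
theorem not_sq_dvd {v : H} {U : Subgroup H} (hU : U ≤ CX v) (h1 : v ≠ 1) (h2 : ¬ p ∣ orderOf v) :
    ¬ p ^ 2 ∣ Nat.card U := by
  intro hd
  obtain ⟨S, hS⟩ := exists_isSylowIn p U
  obtain ⟨P, hP⟩ := hS.isPGroup.exists_le_sylow
  have e : S = P := eq_of_le_of_card_ge hP (by
    rw [h.syl P, hS.card_eq_pow_factorization]
    exact Nat.pow_le_pow_right hp.out.pos ((hp.out.pow_dvd_iff_le_factorization Nat.card_pos.ne').1 hd))
  have m : v ∈ (P : Subgroup H) := h.cent P fun y hy => (ct_mem.1 (hU (hS.le (e ▸ hy)))).symm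
  obtain ⟨k, hk⟩ := isPGroup_iff_forall_mem.1 P.isPGroup' v m
  obtain ⟨j, -, hj⟩ := (Nat.dvd_prime_pow hp.out).1 (orderOf_dvd_of_pow_eq_one hk)
  rcases j with _ | j
  · exact h1 (orderOf_eq_one_iff.1 hj)
  · exact h2 (hj ▸ dvd_pow_self p j.succ_ne_zero)

end Hy

end CfsgLib.LP2
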