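import Mathlib
import Cfsg.Agent.Lib.Fgs.SylowNumber
import Cfsg.Agent.Lib.SylNum.Basic
import Cfsg.Agent.Lib.Transfer.Abelian
import Cfsg.Agent.Lib.Transfer.Residual

/-!
Groups with a self-centralizing Sylow subgroup of order `p ^ 2` and order dividing `|L₂(p²)|`.

Notation for `x ∈ P` of order `p`: `n = nn p H` Sylow subgroups, `|N(P)| = p² c` (`c = cc P`),
`m = fx p x` Sylow subgroups contain `x`, `|C(x) ∩ N(P)| = p² e` (`e = ee P x`), `⟨x⟩` has
`t = tt x` conjugates, `s = ss P x` of them under `N(P)`.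
-/

set_option autoImplicit false

namespace CfsgLib.LP2

open Subgroup

universe u

/-- the standing hypothesis -/
structure Hy (p : ℕ) (H : Type u) [Group H] : Prop where
  five : 5 < p
  card : 2 * Nat.card H ∣ p ^ 2 * (p ^ 4 - 1)
  syl : ∀ P : Sylow p H, Nat.card P = p ^ 2
  cent : ∀ P : Sylow p H, centralizer ((P : Subgroup H) : Set H) ≤ P
  core : ∀ P : Sylow p H, ∃ Q : Sylow p H, (P : Subgroup H) ⊓ Q = ⊥

variable {H : Type u} [Group H] {p : ℕ}

abbrev NS (P : Sylow p H) : Subgroup H := normalizer ((P : Subgroup H) : Set H)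
abbrev CX (x : H) : Subgroup H := centralizer ({x} : Set H)
abbrev NX (x : H) : Subgroup H := normalizer ((zpowers x : Subgroup H) : Set H)

noncomputable def nn (p : ℕ) (H : Type u) [Group H] : ℕ := Nat.card (Sylow p H)
noncomputable def fx (p : ℕ) (x : H) : ℕ := Nat.card {Q : Sylow p H // x ∈ (Q : Subgroup H)}
noncomputable def cc (P : Sylow p H) : ℕ := (P : Subgroup H).relIndex (NS P)
noncomputable def ee (P : Sylow p H) (x : H) : ℕ := (P : Subgroup H).relIndex (CX x ⊓ NS P)
noncomputable def ss (P : Sylow p H) (x : H) : ℕ := (NX x).relIndex (NS P)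
noncomputable def tt (x : H) : ℕ := (NX x).index

/-- an element of order `p` of `P` -/
structure Ln (P : Sylow p H) (x : H) : Prop where
  mem : x ∈ (P : Subgroup H)
  ord : orderOf x = p

/-- the solvable (Mersenne) type -/
structure Sol (p : ℕ) (x : H) : Prop where
  fx_eq : fx p x = p + 1
  two : ∃ a, p + 1 = 2 ^ a
  ex : ∃ V : Subgroup H, Nat.card V = p + 1 ∧ V ≤ CX x ∧ CX x ≤ normalizer (V : Set H)

end CfsgLib.LP2
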