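import Cfsg.Agent.Lib.LP2.Defs
import Cfsg.Agent.Lib.Char.Kernel
import Cfsg.Agent.Lib.Char.DefectZero
import Cfsg.Agent.Lib.ChDeg.Avg
import Cfsg.Agent.S1009

/-!
Package RD (reduction to the standing hypothesis).

`red0`: `χ` faithful of degree `p²`; `p² ∣ |G|`, `p³ ∤ |G|`, so `χ` has defect zero and vanishes on
`p`-singular elements.  `Z = Z(G)` is a `p'`-group (`|χ(z)| = p²`).
* `C(P) ≤ P Z`: let `g ∈ C(P)` have order prime to `p`, `A = P ⊔ ⟨g⟩` (abelian of order
  `p² o(g)`).  `χ_A = ∑ m_λ λ` with linear `λ`, so `⟨χ_A, χ_A⟩ = ∑ m_λ² ≥ ∑ m_λ = p²`, whereas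
  `|A| ⟨χ_A, χ_A⟩ = ∑_{i} |χ(g^i)|² ≤ o(g) p⁴`.  Equality: `|χ(g)| = p²`, `g ∈ Z`.  A general `g` is
  the product of its `p`-part (in `P`) and its `p'`-part.
* `O_p(G) = 1`: if `D ⊴ G` is a `p`-group then `∑_{d ∈ D} χ(d) = p² ≠ 0`, so `D ≤ ker χ`.
* In `H = G ⧸ Z` the Sylow subgroups are the images of those of `G`.  If `ḡ` centralizes `P̄` then
  `g y g⁻¹ = y z`, `z ∈ Z`, `z ^ p² = 1`, so `z = 1`.  `⨅ R̄` is a normal `p`-subgroup of `H`; the
  elements of `P` mapping into it form a normal `p`-subgroup of `G`; Brodkey S1009.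
`red`: `Char.exists_irr_quotient` for the kernel of `χ`.
-/

set_option autoImplicit false

namespace CfsgLib.LP2

open Subgroup Cfsg CfsgLib.Char CfsgLib.ChDeg
open scoped ComplexConjugate Pointwise

universe u

variable {G : Type u} [Group G] [Finite G] {p : ℕ} [hp : Fact p.Prime] {χ : G → ℂ}

omit hp in
/-- an element commuting with a subgroup of order `χ(1)` on whose cosets `χ` vanishes -/
theorem norm_eq {P : Subgroup G} [IsMulCommutative P] (hχ : IsCharacter G χ)
    (h1 : χ 1 = (Nat.card P : ℕ)) {g : G} (hg : g ∈ centralizer (P : Set G))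
    (h0 : ∀ y ∈ P, y ≠ 1 → ∀ w ∈ zpowers g, χ (y * w) = 0) : ‖χ g‖ = ‖χ 1‖ := by
  classical
  have := Fintype.ofFinite P
  have := Fintype.ofFinite (zpowers g)
  let f : P × zpowers g →* G := P.subtype.noncommCoprod (zpowers g).subtype fun y w =>
    (zpowers_le.2 hg w.2 y y.2 : _)
  have hθ := isCharacter_comp f hχ
  have hc : (Nat.card P : ℂ) ≠ 0 := Nat.cast_ne_zero.2 Nat.card_pos.ne'
  obtain ⟨l, hl, hne⟩ := exists_irr_inner_ne_zero (isClassFunction_of_isCharacter hθ) fun e =>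
    hc (by rw [← h1]; simpa using congrFun e 1)
  obtain ⟨k, hk⟩ := (isCharacter_iff_inner_nat.1 hθ).2 l hl
  have : IsMulCommutative (P × zpowers g) := ⟨⟨fun a b => Prod.ext (mul_comm' _ _) (mul_comm' _ _)⟩⟩
  have hl1 : ∀ a, ‖l a‖ ≤ 1 := fun a => by
    simpa [irr_one_eq_one_of_comm hl] using norm_char_le (isCharacter_of_isIrr hl) a
  have hk1 : (1 : ℝ) ≤ k := by
    rw [hk] at hne
    exact_mod_cast Nat.one_le_iff_ne_zero.2 (by exact_mod_cast hne)
  have hs : ∑ a, χ (f a) * conj (l a) = ∑ w : zpowers g, χ w * conj (l (1, w)) := by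
    rw [Fintype.sum_prod_type, Finset.sum_eq_single (1 : P)]
    · exact Finset.sum_congr rfl fun w _ => by rw [show f (1, w) = w from one_mul (w : G)]
    · intro y _ hy
      exact Finset.sum_eq_zero fun w _ => by
        rw [show f (y, w) = y * w from rfl, h0 y y.2 (fun e => hy (Subtype.ext e)) w w.2, zero_mul]
    · simp
  have hA : (Nat.card (P × zpowers g) : ℂ) ≠ 0 := Nat.cast_ne_zero.2 Nat.card_pos.ne'
  have h2 : (Nat.card (P × zpowers g) : ℂ) * k = ∑ w : zpowers g, χ w * conj (l (1, w)) := by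
    rw [← hk, classInner, ← hs, mul_inv_cancel_left₀ hA]
  have h3 : (Nat.card (P × zpowers g) : ℝ) * k ≤ ∑ w : zpowers g, ‖χ w‖ := by
    have := congrArg norm h2
    rw [norm_mul, Complex.norm_natCast, Complex.norm_natCast] at this
    refine this.le.trans ((norm_sum_le _ _).trans (Finset.sum_le_sum fun w _ => ?_))
    rw [norm_mul, Complex.norm_conj]
    exact mul_le_of_le_one_right (norm_nonneg _) (hl1 _)
  by_contra hn
  have h4 : ∑ w : zpowers g, ‖χ w‖ < ∑ _w : zpowers g, ‖χ 1‖ :=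
    Finset.sum_lt_sum (fun w _ => norm_char_le hχ _)
      ⟨⟨g, mem_zpowers g⟩, Finset.mem_univ _, lt_of_le_of_ne (norm_char_le hχ _) hn⟩
  rw [Finset.sum_const, Finset.card_univ, h1, Complex.norm_natCast, nsmul_eq_mul,
    ← Nat.card_eq_fintype_card] at h4
  rw [Nat.card_prod, Nat.cast_mul] at h3
  nlinarith [mul_pos (Nat.cast_pos.2 (Nat.card_pos (α := P)) : (0 : ℝ) < _)
    (Nat.cast_pos.2 (Nat.card_pos (α := zpowers g)) : (0 : ℝ) < _)]

omit [Finite G] hp in
theorem coe_orderOf_eq {U : Subgroup G} {z : U} {n : ℕ} (h : orderOf z = n) : orderOf (z : G) = n :=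
  (Subgroup.orderOf_coe z).trans h

theorem not_cube {n : ℕ} (h : 2 * n ∣ p ^ 2 * (p ^ 4 - 1)) : ¬ p ^ 3 ∣ n := fun h3 => by
  have h1 := (h3.trans (Dvd.intro_left _ rfl)).trans h
  rw [pow_succ, Nat.mul_dvd_mul_iff_left (pow_pos hp.out.pos 2)] at h1
  exact hp.out.one_lt.ne' (Nat.dvd_one.1 ((Nat.dvd_sub_iff_right (Nat.one_le_pow _ _ hp.out.pos)
    (dvd_pow_self p (by decide))).1 h1))

theorem card_syl {X : Type u} [Group X] [Finite X] (h2 : p ^ 2 ∣ Nat.card X)
    (h3 : ¬ p ^ 3 ∣ Nat.card X) (P : Sylow p X) : Nat.card P = p ^ 2 := by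
  have h0 : Nat.card X ≠ 0 := Nat.card_pos.ne'
  rw [hp.out.pow_dvd_iff_le_factorization h0] at h2 h3
  rw [P.card_eq_multiplicity, show (Nat.card X).factorization p = 2 by omega]

theorem iInf_normal {X : Type u} [Group X] : (⨅ R : Sylow p X, (R : Subgroup X)).Normal :=
  ⟨fun d hd g => mem_iInf.2 fun R => by
    have := mem_iInf.1 hd (g⁻¹ • R)
    rw [Sylow.coe_subgroup_smul, mem_pointwise_smul_iff_inv_smul_mem] at this
    simpa using this⟩

theorem red0 (h5 : 5 < p) (hG : 2 * Nat.card G ∣ p ^ 2 * (p ^ 4 - 1)) (hχ : IsIrrCharacter G χ)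
    (h1 : χ 1 = (p ^ 2 : ℕ)) (hf : ∀ g, χ g = χ 1 → g = 1) : Hy p (G ⧸ center G) := by
  classical
  have hc := isCharacter_of_isIrr hχ
  have h2 := irr_degree_dvd_card hχ h1
  have h3 := not_cube hG
  have h0 : ∀ g : G, p ∣ orderOf g → χ g = 0 := fun g =>
    irr_eq_zero_of_defect_zero hχ hp.out h2 h3 h1 dvd_rfl
  have hne : χ 1 ≠ 0 := h1 ▸ Nat.cast_ne_zero.2 (pow_pos hp.out.pos 2).ne'
  have hZ : ∀ z ∈ center G, ¬ p ∣ orderOf z := fun z hz h => hne (norm_eq_zero.1 (by
    rw [← (mem_charCenter hc).1 (center_le_charCenter hχ hz), h0 z h, norm_zero]))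
  have hZ' : ¬ p ∣ Nat.card (center G) := fun h => by
    obtain ⟨z, hz⟩ := exists_prime_orderOf_dvd_card' p h
    exact hZ z z.2 (by rw [coe_orderOf_eq hz])
  have hs := card_syl h2 h3
  have hpow : ∀ (P : Sylow p G), ∀ y ∈ (P : Subgroup G), y ^ p ^ 2 = 1 := fun P y hy => by
    rw [← hs P]; exact congrArg Subtype.val (pow_card_eq_one' (x := (⟨y, hy⟩ : P)))
  have hdv : ∀ y : G, y ^ p ^ 2 = 1 → y ≠ 1 → p ∣ orderOf y := fun y hy h => by
    obtain ⟨i, -, e⟩ := (Nat.dvd_prime_pow hp.out).1 (orderOf_dvd_of_pow_eq_one hy)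
    exact e ▸ dvd_pow_self p fun e' => h (orderOf_eq_one_iff.1 (by rw [e, e', pow_zero]))
  have hlift : ∀ a b : G, a ^ p ^ 2 = 1 → b ^ p ^ 2 = 1 → (a : G ⧸ center G) = b → a = b := by
    intro a b ha hb e
    have hz := QuotientGroup.eq.1 e
    by_contra hn
    refine hZ _ hz (hdv _ ?_ fun e' => hn (inv_mul_eq_one.1 e'))
    have hcm : Commute a (a⁻¹ * b) := mem_center_iff.1 hz a
    have := hcm.mul_pow (p ^ 2)
    rwa [mul_inv_cancel_left, ha, hb, one_mul, eq_comm] at this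
  have hd := card_quotient_dvd_card (center G)
  have hs' := card_syl (X := G ⧸ center G) ((Nat.Coprime.pow_left 2
    ((Nat.Prime.coprime_iff_not_dvd hp.out).2 hZ')).dvd_of_dvd_mul_right
      (card_eq_card_quotient_mul_card_subgroup (center G) ▸ h2)) fun h => h3 (h.trans hd)
  have hsur := Sylow.mapSurjective_surjective (QuotientGroup.mk'_surjective (center G)) p
  have hab := fun P => IsPGroup.isMulCommutative_of_card_eq_prime_sq (hs' P)
  refine ⟨h5, (Nat.mul_dvd_mul_left 2 hd).trans hG, hs', fun P' => ?_, fun P' => ?_⟩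
  · refine (P'.is_maximal' ?_ (le_centralizer_iff_isMulCommutative.2 (hab P'))).le
    obtain ⟨P, rfl⟩ := hsur P'
    refine IsPGroup.iff_card.2 ⟨_, Nat.eq_prime_pow_of_unique_prime_dvd Nat.card_pos.ne'
      fun {q} hq h => by_contra fun hqp => ?_⟩
    have := Fact.mk hq
    obtain ⟨⟨g, hg⟩, ho⟩ := exists_prime_orderOf_dvd_card' q h
    have ho' : orderOf g = q := coe_orderOf_eq ho
    obtain ⟨g, rfl⟩ := QuotientGroup.mk_surjective g
    have hgq : g ^ q ∈ center G := (QuotientGroup.eq_one_iff _).1 (by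
      rw [QuotientGroup.mk_pow, ← ho', pow_orderOf_eq_one])
    have hpg : ¬ p ∣ orderOf g := fun h => hZ _ hgq (by
      have := (Nat.coprime_primes hp.out hq).2 (Ne.symm hqp)
      exact this.dvd_of_dvd_mul_left (h.trans (orderOf_dvd_of_pow_eq_one (by
        rw [pow_mul, pow_orderOf_eq_one]))))
    have hgP : g ∈ centralizer ((P : Subgroup G) : Set G) := fun y hy => by
      have e := hg y ⟨y, hy, rfl⟩
      refine (mul_inv_eq_iff_eq_mul.1 (hlift (g * y * g⁻¹) y (by
        rw [conj_pow, hpow P y hy, mul_one, mul_inv_cancel]) (hpow P y hy) ?_)).symm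
      rw [QuotientGroup.mk_mul, QuotientGroup.mk_mul, QuotientGroup.mk_inv, ← e, mul_inv_cancel_right]
    have := IsPGroup.isMulCommutative_of_card_eq_prime_sq (hs P)
    have hn := norm_eq hc (by rw [hs P, h1]) hgP fun y hy hy1 w hw => h0 _ (by
      have hcm : Commute y w := zpowers_le.2 hgP hw y hy
      by_contra hn
      have hw' : ¬ p ∣ orderOf w := fun h => hpg (h.trans (orderOf_dvd_of_mem_zpowers hw))
      refine (hp.out.dvd_mul.not.2 (not_or.2 ⟨hn, hw'⟩)) ((hdv y (hpow P y hy) hy1).trans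
        (orderOf_dvd_of_pow_eq_one ?_))
      have e := hcm.mul_pow (orderOf (y * w) * orderOf w)
      rw [pow_mul, pow_orderOf_eq_one, one_pow, mul_comm (orderOf (y * w)), pow_mul w,
        pow_orderOf_eq_one, one_pow, mul_one, mul_comm] at e
      exact e.symm)
    have hz : g ∈ center G := charCenter_le_center_of_faithful (isClassFunction_of_isCharacter hc)
      (eq_bot_iff.2 fun a ha => hf a ((mem_charKer hc).1 ha)) ((mem_charCenter hc).2 hn)
    rw [(QuotientGroup.eq_one_iff g).2 hz, orderOf_one] at ho'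
    exact hq.one_lt.ne ho'
  · obtain ⟨P₀, Q₀, e⟩ := Cfsg.Agent.S1009.result p hab
    have hD : (⨅ R : Sylow p G, (R : Subgroup G)) = ⊥ := by
      have := iInf_normal (p := p) (X := G)
      have := Fintype.ofFinite (⨅ R : Sylow p G, (R : Subgroup G) : Subgroup G)
      by_contra hn
      have hs0 := sum_coset_eq_zero hχ (⨅ R : Sylow p G, (R : Subgroup G))
        (fun h => hn (eq_bot_iff.2 fun a ha => hf a ((mem_cker hc).1 (h ha)))) 1
      rw [Finset.sum_eq_single 1 (fun d _ hd => by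
        rw [mul_one]
        exact h0 _ (hdv _ (hpow default _ (mem_iInf.1 d.2 _)) fun e => hd (Subtype.ext e)))
        (by simp)] at hs0
      exact hne (by simpa using hs0)
    have hb : (P₀ : Subgroup (G ⧸ center G)) ⊓ Q₀ = ⊥ := by
      rw [e, eq_bot_iff]
      intro d hd
      let im := fun R : Sylow p G => R.mapSurjective (QuotientGroup.mk'_surjective (center G))
      obtain ⟨a, ha, rfl⟩ := mem_iInf.1 hd (im default)
      have : a ∈ ⨅ R : Sylow p G, (R : Subgroup G) := mem_iInf.2 fun R => by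
        obtain ⟨b, hb, e⟩ := mem_iInf.1 hd (im R)
        exact hlift b a (hpow R b hb) (hpow _ a ha) e ▸ hb
      rw [hD, mem_bot] at this
      rw [this, map_one]
      exact one_mem _
    obtain ⟨g, rfl⟩ := MulAction.exists_smul_eq (G ⧸ center G) P₀ P'
    refine ⟨g • Q₀, ?_⟩
    rw [Sylow.coe_subgroup_smul, Sylow.coe_subgroup_smul, ← smul_inf, hb, smul_bot]

theorem red (h5 : 5 < p) (hG : 2 * Nat.card G ∣ p ^ 2 * (p ^ 4 - 1)) (hχ : IsIrrCharacter G χ)
    (h1 : χ 1 = (p ^ 2 : ℕ)) : ∃ (H : Type u) (_ : Group H) (_ : Finite H) (f : G →* H),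
      Function.Surjective f ∧ Hy p H := by
  have hc := isCharacter_of_isIrr hχ
  obtain ⟨ψ, hψ, e⟩ := exists_irr_quotient (cker χ) hχ fun g hg => (mem_cker hc).1 hg
  have e1 : ψ 1 = χ 1 := e 1
  refine ⟨_, _, inferInstance, (QuotientGroup.mk' _).comp (QuotientGroup.mk' (cker χ)),
    (QuotientGroup.mk'_surjective _).comp (QuotientGroup.mk'_surjective _),
    red0 h5 ((Nat.mul_dvd_mul_left 2 (card_quotient_dvd_card _)).trans hG) hψ (e1.trans h1) ?_⟩
  intro g hg
  obtain ⟨g, rfl⟩ := QuotientGroup.mk_surjective g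
  exact (QuotientGroup.eq_one_iff g).2 ((mem_cker hc).2 (by rw [← e, hg, e1]))

end CfsgLib.LP2
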